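import Cfsg.Agent.Lib.J1Rec.Main
import Cfsg.Agent.Lib.Core.PCore

/-!
# Involution centraliser `2 × A_m` (helper49)
-/

set_option autoImplicit false

namespace H49.Alt
open Subgroup Equiv Equiv.Perm

theorem sq_aux {α : Type*} [DecidableEq α] {a a' b b' x y : α} (h1 : a' ≠ a) (h2 : b ≠ a)
    (h3 : b' ≠ a) (h4 : b ≠ a') (h5 : b' ≠ a') (h6 : b' ≠ b) (h7 : x ≠ y) (x1 : x ≠ a) (x2 : x ≠ a')
    (x3 : x ≠ b) (x4 : x ≠ b') (y1 : y ≠ a) (y2 : y ≠ a') (y3 : y ≠ b) (y4 : y ≠ b') :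
    swap a a' * (swap a b * swap a' b') * swap x y * (swap a a' * (swap a b * swap a' b') * swap x y)
      = swap a a' * swap b b' := by
  have := h1.symm; have := h2.symm; have := h3.symm; have := h4.symm; have := h5.symm
  have := h6.symm; have := h7.symm; have := x1.symm; have := x2.symm; have := x3.symm
  have := x4.symm; have := y1.symm; have := y2.symm; have := y3.symm; have := y4.symm
  ext z
  by_cases z1 : z = a
  · subst z1; simp [swap_apply_def, *]
  by_cases z2 : z = a'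
  · subst z2; simp [swap_apply_def, *]
  by_cases z3 : z = b
  · subst z3; simp [swap_apply_def, *]
  by_cases z4 : z = b'
  · subst z4; simp [swap_apply_def, *]
  by_cases z5 : z = x
  · subst z5; simp [swap_apply_def, *]
  by_cases z6 : z = y
  · subst z6; simp [swap_apply_def, *]
  simp [swap_apply_def, *]

theorem pair_mem {α : Type*} [Fintype α] [DecidableEq α] (hα : 6 ≤ Fintype.card α) {σ : Perm α}
    (hσ : σ * σ = 1) (K : Subgroup (Perm α))
    (hK : ∀ c, sign c = 1 → σ * c = c * σ → c * c ∈ K) {a b : α} (ha : σ a ≠ a) (hb : σ b ≠ b)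
    (h1 : b ≠ a) (h2 : b ≠ σ a) : swap a (σ a) * swap b (σ b) ∈ K := by
  have hs : ∀ z, σ (σ z) = z := fun z => by rw [← mul_apply, hσ, one_apply]
  have h3 : σ b ≠ a := fun e => h2 (by rw [← e, hs])
  have h4 : σ b ≠ σ a := fun e => h1 (σ.injective e)
  have key : ∀ x y, x ≠ y → x ∉ ({a, σ a, b, σ b} : Finset α) → y ∉ ({a, σ a, b, σ b} : Finset α) →
      swap (σ x) (σ y) = swap x y → swap a (σ a) * swap b (σ b) ∈ K := by
    intro x y hxy hx hy e
    simp only [Finset.mem_insert, Finset.mem_singleton, not_or] at hx hy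
    obtain ⟨x1, x2, x3, x4⟩ := hx
    obtain ⟨y1, y2, y3, y4⟩ := hy
    have hc := hK (swap a (σ a) * (swap a b * swap (σ a) (σ b)) * swap x y)
      (by simp [sign_swap, ha.symm, h1.symm, h4.symm, hxy]) ?_
    · rwa [sq_aux ha h1 h3 h2 h4 hb hxy x1 x2 x3 x4 y1 y2 y3 y4] at hc
    · have e2 : swap (σ a) (σ b) * swap a b = swap a b * swap (σ a) (σ b) := by
        rw [mul_swap_eq_swap_mul, swap_apply_of_ne_of_ne ha.symm h3.symm,
          swap_apply_of_ne_of_ne h2 hb.symm]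
      simp only [← mul_assoc]
      rw [mul_swap_eq_swap_mul σ, mul_assoc _ σ, mul_swap_eq_swap_mul σ, ← mul_assoc, mul_assoc _ σ,
        mul_swap_eq_swap_mul σ, ← mul_assoc, mul_assoc _ σ, mul_swap_eq_swap_mul σ, ← mul_assoc,
        hs, hs, e, swap_comm (σ a) a, mul_assoc (swap a (σ a)), e2, ← mul_assoc]
  have inv : ∀ x, x ∉ ({a, σ a, b, σ b} : Finset α) → σ x ∉ ({a, σ a, b, σ b} : Finset α) := by
    intro x hx hx'
    apply hx
    rw [← hs x]
    simp only [Finset.mem_insert, Finset.mem_singleton] at hx' ⊢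
    rcases hx' with e | e | e | e <;> rw [e] <;> simp [hs]
  have ex : ∀ s : Finset α, s.card ≤ 5 → ∃ x, x ∉ s := fun s h => by
    by_contra hh
    push Not at hh
    have := Finset.card_le_card (show Finset.univ ⊆ s from fun x _ => hh x)
    rw [Finset.card_univ] at this
    omega
  obtain ⟨x, hx⟩ := ex {a, σ a, b, σ b} (Finset.card_le_four.trans (by norm_num))
  by_cases hx1 : σ x = x
  · obtain ⟨y, hy⟩ := ex (insert x {a, σ a, b, σ b}) Finset.card_le_five
    rw [Finset.mem_insert, not_or] at hy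
    by_cases hy1 : σ y = y
    · exact key x y (Ne.symm hy.1) hx hy.2 (by rw [hx1, hy1])
    · exact key y (σ y) (Ne.symm hy1) hy.2 (inv y hy.2) (by rw [hs, swap_comm])
  · exact key x (σ x) (Ne.symm hx1) hx (inv x hx) (by rw [hs, swap_comm])

theorem invol_mem {α : Type*} [Fintype α] [DecidableEq α] (hα : 6 ≤ Fintype.card α) {σ : Perm α}
    (hσ : σ * σ = 1) (hsg : sign σ = 1) (K : Subgroup (Perm α))
    (hK : ∀ c, sign c = 1 → σ * c = c * σ → c * c ∈ K) : σ ∈ K := by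
  have hs : ∀ z, σ (σ z) = z := fun z => by rw [← mul_apply, hσ, one_apply]
  -- removing one transposition
  have step : ∀ π : Perm α, (∀ x, π x = x ∨ π x = σ x) → ∀ a, π a ≠ a →
      σ a ≠ a ∧ (∀ x, (π * swap a (σ a)) x = x ∨ (π * swap a (σ a)) x = σ x) ∧
      (π * swap a (σ a)).support.card < π.support.card ∧
      (π * swap a (σ a)) a = a ∧ (π * swap a (σ a)) (σ a) = σ a := by
    intro π hπ a ha
    have e1 : π a = σ a := (hπ a).resolve_left ha
    have e0 : σ a ≠ a := e1 ▸ ha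
    have e2 : π (σ a) = a := by
      rcases hπ (σ a) with e | e
      · exact absurd (π.injective (e.trans e1.symm)) e0
      · rw [e, hs]
    have f1 : (π * swap a (σ a)) a = a := by simp [e2]
    have f2 : (π * swap a (σ a)) (σ a) = σ a := by simp [e1]
    have f3 : ∀ x, x ≠ a → x ≠ σ a → (π * swap a (σ a)) x = π x := fun x h1 h2 => by
      rw [mul_apply, swap_apply_of_ne_of_ne h1 h2]
    refine ⟨e0, fun x => ?_, ?_, f1, f2⟩
    · by_cases h1 : x = a
      · exact Or.inl (h1 ▸ f1)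
      by_cases h2 : x = σ a
      · exact Or.inl (h2 ▸ f2)
      rw [f3 x h1 h2]; exact hπ x
    · refine Finset.card_lt_card ⟨fun x hx => ?_, fun h => ?_⟩
      · rw [mem_support] at hx ⊢
        by_cases h1 : x = a
        · exact absurd (h1 ▸ f1) hx
        by_cases h2 : x = σ a
        · exact absurd (h2 ▸ f2) hx
        rwa [← f3 x h1 h2]
      · exact mem_support.1 (h (mem_support.2 ha)) f1
  have main : ∀ n, ∀ π : Perm α, π.support.card = n → (∀ x, π x = x ∨ π x = σ x) → sign π = 1 →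
      π ∈ K := by
    intro n
    induction n using Nat.strong_induction_on with
    | _ n ih =>
    intro π hn hπ hsπ
    by_cases h1 : π = 1
    · rw [h1]; exact K.one_mem
    obtain ⟨a, ha⟩ : ∃ a, π a ≠ a := by
      by_contra hh; push Not at hh; exact h1 (Equiv.ext hh)
    obtain ⟨a1, a2, a3, a4, a5⟩ := step π hπ a ha
    obtain ⟨b, hb⟩ : ∃ b, (π * swap a (σ a)) b ≠ b := by
      by_contra hh; push Not at hh
      have := congrArg sign (show π * swap a (σ a) = 1 from Equiv.ext hh)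
      simp [hsπ, sign_swap a1.symm] at this
    obtain ⟨b1, b2, b3, -, -⟩ := step _ a2 b hb
    have h5 := ih _ (hn ▸ b3.trans a3) _ rfl b2 (by simp [hsπ, sign_swap a1.symm, sign_swap b1.symm])
    have h6 := pair_mem hα hσ K hK a1 b1 (fun e => hb (e ▸ a4)) (fun e => hb (e ▸ a5))
    rw [mul_assoc] at h5
    exact (K.mul_mem_cancel_right h6).1 h5
  exact main _ σ rfl (fun _ => Or.inr rfl) hsg

variable {G : Type*} [Group G] {A : Type*} [Group A]

/-- `C(t) = ⟨t⟩ × ψ(A)` -/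
structure Fr (t : G) (ψ : A →* G) : Prop where
  inj : Function.Injective ψ
  t2 : t * t = 1
  ne : ∀ α, ψ α ≠ t
  cent : ∀ g, g * t = t * g ↔ ∃ α, g = ψ α ∨ g = t * ψ α

theorem exists_fr {t : G} (ht : orderOf t = 2) {T : Subgroup G} (e : T ≃* A)
    (hd : Cfsg.IsInternalDirectProduct (zpowers t) T (centralizer ({t} : Set G))) :
    ∃ ψ : A →* G, Fr t ψ := by
  obtain ⟨-, h2, h3, h4, h5⟩ := hd
  have t2 := H9.mul_self_of_orderOf_two ht
  have hm : ∀ α, (e.symm α : G) * t = t * e.symm α := fun α =>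
    mem_centralizer_singleton_iff.1 (h2 (e.symm α).2)
  refine ⟨T.subtype.comp e.symm.toMonoidHom, T.subtype_injective.comp e.symm.injective, t2,
    fun α h => ?_, fun g => ⟨fun h => ?_, ?_⟩⟩
  · have : t ∈ zpowers t ⊓ T := ⟨mem_zpowers t, h ▸ (e.symm α).2⟩
    rw [h4, mem_bot] at this
    exact H9.ne_one_of_orderOf_two ht this
  · have hg : g ∈ zpowers t ⊔ T := h5 ▸ mem_centralizer_singleton_iff.2 h
    let K : Subgroup G :=
      { carrier := {g | g ∈ T ∨ t * g ∈ T}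
        one_mem' := Or.inl T.one_mem
        mul_mem' := by
          have c : ∀ a ∈ T, t * a = a * t := fun a ha => h3 t (mem_zpowers t) a ha
          rintro a b (ha | ha) (hb | hb)
          · exact Or.inl (T.mul_mem ha hb)
          · exact Or.inr (by rw [← mul_assoc, c a ha, mul_assoc]; exact T.mul_mem ha hb)
          · exact Or.inr (by rw [← mul_assoc]; exact T.mul_mem ha hb)
          · refine Or.inl ?_
            have := T.mul_mem ha hb
            rwa [← mul_assoc, ← c _ ha, ← mul_assoc, t2, one_mul] at this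
        inv_mem' := by
          rintro a (ha | ha)
          · exact Or.inl (T.inv_mem ha)
          · refine Or.inr ?_
            have h6 := h3 t (mem_zpowers t) _ ha
            rw [← mul_assoc, t2, one_mul] at h6
            have h7 : t * a⁻¹ = (t * a)⁻¹ := by
              rw [eq_inv_iff_mul_eq_one]
              nth_rewrite 1 [h6]
              rw [mul_inv_rev, inv_eq_of_mul_eq_one_right t2]
              calc _ = t * t * ((t * a)⁻¹ * (t * a)) := by group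
                _ = 1 := by rw [t2]; group
            rw [h7]; exact T.inv_mem ha }
    have hK : zpowers t ⊔ T ≤ K := sup_le (zpowers_le.2 (Or.inr (t2 ▸ T.one_mem))) fun a ha => Or.inl ha
    rcases hK hg with h6 | h6
    · exact ⟨e ⟨g, h6⟩, Or.inl (by simp)⟩
    · exact ⟨e ⟨_, h6⟩, Or.inr (by simp [← mul_assoc, t2])⟩
  · rintro ⟨α, rfl | rfl⟩
    · exact hm α
    · exact (mul_assoc _ _ _).trans (congrArg (t * ·) (hm α)) |>.trans rfl

variable {t : G} {ψ : A →* G}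

namespace Fr

theorem comm (h : Fr t ψ) (α : A) : ψ α * t = t * ψ α := (h.cent _).2 ⟨α, Or.inl rfl⟩
theorem ne_one (h : Fr t ψ) : t ≠ 1 := fun e => h.ne 1 (by rw [map_one, e])
theorem ord (h : Fr t ψ) : orderOf t = 2 := H9.orderOf_eq_two_of_mul_self h.ne_one h.t2
theorem inv (h : Fr t ψ) : t⁻¹ = t := inv_eq_of_mul_eq_one_right h.t2
theorem ne' (h : Fr t ψ) (α β : A) : ψ α ≠ t * ψ β := fun e =>
  h.ne (α * β⁻¹) (by rw [map_mul, map_inv, e, mul_inv_cancel_right])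
theorem tmul (h : Fr t ψ) (α β : A) : t * ψ α * (t * ψ β) = ψ (α * β) := by
  rw [mul_assoc, ← mul_assoc (ψ α), h.comm, ← mul_assoc, ← mul_assoc, h.t2, one_mul, map_mul]
theorem mult (h : Fr t ψ) (α β : A) : ψ α * (t * ψ β) = t * ψ (α * β) := by
  rw [← mul_assoc, h.comm, map_mul, mul_assoc]
theorem tinv (h : Fr t ψ) (α : A) : (t * ψ α)⁻¹ = t * ψ α⁻¹ := by
  rw [mul_inv_rev, h.inv, ← map_inv, h.comm]
theorem conj (h : Fr t ψ) {g : G} {α : A} (hg : g = ψ α ∨ g = t * ψ α) (β : A) :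
    g * ψ β * g⁻¹ = ψ (α * β * α⁻¹) := by
  rcases hg with rfl | rfl
  · simp
  · rw [h.tinv, mul_assoc t, ← map_mul, h.tmul]
theorem sq (h : Fr t ψ) {g : G} {α : A} (hg : g = ψ α ∨ g = t * ψ α) : g * g = ψ (α * α) := by
  rcases hg with rfl | rfl
  · simp
  · rw [h.tmul]

theorem ncard [Fintype A] (h : Fr t ψ) (P Q : A → Prop) [DecidablePred P] [DecidablePred Q] :
    {g | ∃ α, (P α ∧ g = ψ α) ∨ (Q α ∧ g = t * ψ α)}.ncard =
      (Finset.univ.filter P).card + (Finset.univ.filter Q).card := by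
  have e : {g | ∃ α, (P α ∧ g = ψ α) ∨ (Q α ∧ g = t * ψ α)} =
      ψ '' (Finset.univ.filter P : Set A) ∪ (fun α => t * ψ α) '' (Finset.univ.filter Q : Set A) := by
    ext g
    simp only [Set.mem_ofPred_eq, Set.mem_union, Set.mem_image, Finset.coe_filter, Finset.mem_univ,
      true_and]
    constructor
    · rintro ⟨α, ⟨hα, rfl⟩ | ⟨hα, rfl⟩⟩
      · exact Or.inl ⟨α, hα, rfl⟩
      · exact Or.inr ⟨α, hα, rfl⟩
    · rintro (⟨α, hα, rfl⟩ | ⟨α, hα, rfl⟩)
      · exact ⟨α, Or.inl ⟨hα, rfl⟩⟩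
      · exact ⟨α, Or.inr ⟨hα, rfl⟩⟩
  rw [e, Set.ncard_union_eq, Set.ncard_image_of_injective _ h.inj,
    Set.ncard_image_of_injective _ (fun α β e => h.inj (mul_left_cancel e)), Set.ncard_coe_finset,
    Set.ncard_coe_finset]
  rw [Set.disjoint_left]
  rintro _ ⟨α, -, rfl⟩ ⟨β, -, e⟩
  exact h.ne' _ _ e.symm

/-- Thompson transfer -/
theorem fuse [Finite G] (h : Fr t ψ) (h2 : ∀ N : Subgroup G, N.Normal → N.index ≠ 2) (P : Sylow 2 G)
    (ht : t ∈ P) (hP : ∀ x ∈ P, x * t = t * x) : ∃ g α, ψ α ∈ P ∧ g * t * g⁻¹ = ψ α := by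
  let Q : Subgroup G := P ⊓ ψ.range
  have hi : Q.relIndex P = 2 := by
    rw [relIndex, index_eq_two_iff]
    refine ⟨⟨t, ht⟩, ?_⟩
    rintro ⟨g, hg⟩
    obtain ⟨α, rfl | rfl⟩ := (h.cent g).1 (hP g hg)
    · refine Or.inr ⟨⟨hg, α, rfl⟩, ?_⟩
      rintro ⟨-, β, e⟩
      exact h.ne' β α (e.trans (h.comm α))
    · refine Or.inl ⟨⟨(P : Subgroup G).mul_mem hg ht, α, ?_⟩, ?_⟩
      · show ψ α = t * ψ α * t
        rw [mul_assoc, h.comm, ← mul_assoc, h.t2, one_mul]
      · rintro ⟨-, β, e⟩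
        exact h.ne' β α e
  rcases Cfsg.Agent.S0111.result P Q inf_le_left hi t h.ord ht
    (fun ⟨_, β, e⟩ => h.ne β e) with ⟨M, h1, h3, -⟩ | ⟨g, h1, α, e⟩
  · exact absurd h3 (h2 M h1)
  · exact ⟨g, α, e ▸ h1, e.symm⟩

end Fr

theorem not_six {m : ℕ} (hm : 6 ≤ m) {ψ : alternatingGroup (Fin m) →* G} (h : Fr t ψ) {g : G}
    {σ : alternatingGroup (Fin m)} (e : g * t * g⁻¹ = ψ σ) : False := by
  let K : Subgroup (Perm (Fin m)) :=
    ((ψ.range.map (MulAut.conj g).toMonoidHom).comap ψ).map (alternatingGroup (Fin m)).subtype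
  have hσ : σ * σ = 1 := h.inj (by rw [map_mul, ← e, map_one, conj_mul, h.t2]; simp)
  have := invol_mem (by simpa using hm) (σ := σ.1) (congrArg Subtype.val hσ) (mem_alternatingGroup.1 σ.2) K (fun c h1 h2 => by
    have h3 : σ * ⟨c, h1⟩ = ⟨c, h1⟩ * σ := Subtype.ext h2
    have h4 : g⁻¹ * ψ ⟨c, h1⟩ * g * t = t * (g⁻¹ * ψ ⟨c, h1⟩ * g) := by
      have h5 := congrArg ψ h3
      rw [map_mul, map_mul, ← e] at h5
      calc _ = g⁻¹ * (ψ ⟨c, h1⟩ * (g * t * g⁻¹)) * g := by group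
        _ = _ := by rw [← h5]; group
    obtain ⟨β, hβ⟩ := (h.cent _).1 h4
    refine ⟨⟨c, h1⟩ * ⟨c, h1⟩, ⟨_, ⟨β * β, rfl⟩, ?_⟩, rfl⟩
    show g * ψ (β * β) * g⁻¹ = _
    rw [← h.sq hβ, map_mul]; group)
  obtain ⟨σ', ⟨_, ⟨β, rfl⟩, e1⟩, e2⟩ := this
  obtain rfl : σ' = σ := Subtype.ext e2
  exact h.ne β (by simpa using e1.trans e.symm)

/-! ### the case `m = 4` -/

abbrev A4 : Type := alternatingGroup (Fin 4)

theorem v_mul : ∀ α β : A4, α * α = 1 → β * β = 1 → α * β * (α * β) = 1 := by decide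
theorem v_conj : ∀ α β : A4, α * α = 1 → β * β = 1 → α ≠ 1 → β ≠ 1 → ∃ γ, γ * α * γ⁻¹ = β := by
  decide
theorem v_cent : ∀ α β : A4, α * α = 1 → ¬ α = 1 → β * α = α * β → β * β = 1 := by
  have : ∀ α β : A4, (α * α = 1 ∧ ¬ α = 1 ∧ β * α = α * β) → β * β = 1 := by decide
  exact fun α β h1 h2 h3 => this α β ⟨h1, h2, h3⟩
set_option maxRecDepth 4000 in
theorem v_odd : ∀ α : A4, α * α = 1 ∨ ∃ β, β * (α * β⁻¹ * α⁻¹) ≠ 1 ∧
    β * (α * β⁻¹ * α⁻¹) * (β * (α * β⁻¹ * α⁻¹)) = 1 := by decide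
theorem v_ex : ∃ α : A4, α * α = 1 ∧ α ≠ 1 := by decide
theorem v_nc : ∃ α β : A4, α * β ≠ β * α := by decide
theorem card_v : (Finset.univ.filter fun α : A4 => α * α = 1).card = 4 := by decide
theorem card_v' : (Finset.univ.filter fun α : A4 => α * α = 1 ∧ α ≠ 1).card = 3 := by decide
theorem card_1 : (Finset.univ.filter fun α : A4 => α = 1).card = 1 := by decide
theorem card_t : (Finset.univ.filter fun _ : A4 => True).card = 12 := by decide

section four
variable {ψ : A4 →* G}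
namespace Fr

theorem card_cent (h : Fr t ψ) : Nat.card (centralizer ({t} : Set G)) = 24 := by
  have := h.ncard (fun _ => True) (fun _ => True)
  rw [card_t] at this
  refine Eq.trans (congrArg Set.ncard (Set.ext fun g => ?_)) this
  simp only [true_and]
  exact mem_centralizer_singleton_iff.trans (h.cent g)

/-- the Sylow 2-subgroup `⟨t⟩ × V` -/
def S (h : Fr t ψ) : Subgroup G where
  carrier := {g | ∃ α, α * α = 1 ∧ (g = ψ α ∨ g = t * ψ α)}
  one_mem' := ⟨1, one_mul _, Or.inl (map_one ψ).symm⟩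
  mul_mem' := by
    rintro _ _ ⟨α, hα, rfl | rfl⟩ ⟨β, hβ, rfl | rfl⟩
    · exact ⟨_, v_mul _ _ hα hβ, Or.inl (map_mul ψ _ _).symm⟩
    · exact ⟨_, v_mul _ _ hα hβ, Or.inr (h.mult _ _)⟩
    · exact ⟨_, v_mul _ _ hα hβ, Or.inr (by rw [map_mul, mul_assoc])⟩
    · exact ⟨_, v_mul _ _ hα hβ, Or.inl (h.tmul _ _)⟩
  inv_mem' := by
    rintro _ ⟨α, hα, rfl | rfl⟩
    · exact ⟨α, hα, Or.inl (by rw [← map_inv, inv_eq_of_mul_eq_one_right hα])⟩
    · exact ⟨α, hα, Or.inr (by rw [h.tinv, inv_eq_of_mul_eq_one_right hα])⟩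

theorem mem_S (h : Fr t ψ) {g : G} : g ∈ h.S ↔ g * t = t * g ∧ g * g = 1 := by
  constructor
  · rintro ⟨α, hα, e⟩
    exact ⟨(h.cent g).2 ⟨α, e⟩, by rw [h.sq e, hα, map_one]⟩
  · rintro ⟨h1, h2⟩
    obtain ⟨α, e⟩ := (h.cent g).1 h1
    exact ⟨α, h.inj (by rw [← h.sq e, h2, map_one]), e⟩
theorem card_S (h : Fr t ψ) : Nat.card h.S = 8 := by
  have := h.ncard (fun α => α * α = 1) (fun α => α * α = 1)
  rw [card_v] at this
  refine Eq.trans (congrArg Set.ncard (Set.ext fun g => ?_)) this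
  exact exists_congr fun α => and_or_left
theorem t_mem (h : Fr t ψ) : t ∈ h.S := h.mem_S.2 ⟨rfl, h.t2⟩
theorem ψ_mem (h : Fr t ψ) {α : A4} (hα : α * α = 1) : ψ α ∈ h.S := ⟨α, hα, Or.inl rfl⟩
theorem S_comm (h : Fr t ψ) {s s' : G} (hs : s ∈ h.S) (hs' : s' ∈ h.S) : s * s' = s' * s := by
  have h1 := (h.mem_S.1 (h.S.mul_mem hs hs')).2
  rw [← inv_eq_of_mul_eq_one_right h1, mul_inv_rev, inv_eq_of_mul_eq_one_right (h.mem_S.1 hs).2,
    inv_eq_of_mul_eq_one_right (h.mem_S.1 hs').2]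
theorem S_pgroup (h : Fr t ψ) : IsPGroup 2 h.S := IsPGroup.of_card (n := 3) h.card_S
theorem cent_le (h : Fr t ψ) : centralizer {t} ≤ normalizer (h.S : Set G) := fun g hg => by
  haveI : Finite h.S := Nat.finite_of_card_ne_zero (by rw [h.card_S]; omega)
  have hg := mem_centralizer_singleton_iff.1 hg
  refine mem_normalizer_fintype fun s hs => ?_
  obtain ⟨h1, h2⟩ := h.mem_S.1 hs
  refine h.mem_S.2 ⟨?_, by rw [conj_mul, h2]; simp⟩
  have : g⁻¹ * t = t * g⁻¹ := (show Commute g t from hg).inv_left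
  rw [mul_assoc, this, ← mul_assoc, mul_assoc g, h1, ← mul_assoc, hg]; group
theorem mem_S_of_cent (h : Fr t ψ) {g : G} (hg : ∀ s ∈ h.S, g * s = s * g) : g ∈ h.S := by
  obtain ⟨α, h1, h2⟩ := v_ex
  obtain ⟨β, hβ⟩ := (h.cent g).1 (hg t h.t_mem)
  have h3 := h.conj hβ α
  rw [hg _ (h.ψ_mem h1), mul_inv_cancel_right] at h3
  exact ⟨β, v_cent α β h1 h2 (mul_inv_eq_iff_eq_mul.1 (h.inj h3).symm), hβ⟩
theorem ncard_S_sharp (h : Fr t ψ) : ((h.S : Set G) \ {1}).ncard = 7 := by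
  rw [Set.ncard_sdiff_singleton_of_mem h.S.one_mem]
  exact congrArg (· - 1) h.card_S

end Fr

/-- the standing hypothesis for `m = 4` -/
structure Hy (t : G) (ψ : A4 →* G) : Prop extends Fr t ψ where
  odd : Odd (centralizer ({t} : Set G)).index
  noidx : ∀ M : Subgroup G, M.Normal → M.index ≠ 2

namespace Hy
variable [Finite G]

theorem card_G (h : Hy t ψ) : Nat.card G = 24 * (centralizer ({t} : Set G)).index := by
  rw [← h.card_cent, card_mul_index]
theorem not_dvd_index (h : Hy t ψ) : ¬ 2 ∣ h.S.index := by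
  have h1 := h.S.card_mul_index
  rw [h.card_S, h.card_G] at h1
  obtain ⟨k, hk⟩ := h.odd
  omega
/-- `S` as a Sylow subgroup -/
def syl (h : Hy t ψ) : Sylow 2 G := h.S_pgroup.toSylow h.not_dvd_index
theorem not_sixteen (h : Hy t ψ) (K : Subgroup G) : ¬ 16 ∣ Nat.card K := fun hK => by
  have h1 := hK.trans K.card_subgroup_dvd_card
  rw [h.card_G] at h1
  obtain ⟨k, hk⟩ := h.odd
  omega

theorem orbit_eq (h : Hy t ψ) :
    {g | ∃ n ∈ normalizer (h.S : Set G), n * t * n⁻¹ = g} = (h.S : Set G) \ {1} := by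
  set O := {g | ∃ n ∈ normalizer (h.S : Set G), n * t * n⁻¹ = g} with hO
  have hsub : O ⊆ (h.S : Set G) \ {1} := by
    rintro _ ⟨n, hn, rfl⟩
    exact ⟨(mem_normalizer_iff.1 hn _).1 h.t_mem, by simpa using h.ne_one⟩
  have hx : ∀ γ, ∀ g ∈ O, ψ γ * g * (ψ γ)⁻¹ ∈ O := by
    rintro γ _ ⟨n, hn, rfl⟩
    exact ⟨_, mul_mem (h.cent_le (mem_centralizer_singleton_iff.2 (h.comm γ))) hn, by group⟩
  have ht : t ∈ O := ⟨1, one_mem _, by simp⟩
  obtain ⟨g, α, hα, e⟩ := h.fuse h.noidx h.syl h.t_mem (fun x hx => (h.mem_S.1 hx).1)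
  obtain ⟨n, hn, e2⟩ := Cfsg.Agent.S0076.result h.syl {t} {ψ α} (Set.singleton_subset_iff.2 h.t_mem)
    (Set.singleton_subset_iff.2 hα)
    (fun x hx => by rw [Set.image_singleton, h.S_comm hx h.t_mem, mul_inv_cancel_right])
    (fun x hx => by rw [Set.image_singleton, h.S_comm hx hα, mul_inv_cancel_right]) g
    (by rw [Set.image_singleton, e])
  rw [Set.image_singleton, Set.singleton_eq_singleton_iff] at e2
  have hα2 : α * α = 1 := h.inj (by rw [map_mul, (h.mem_S.1 hα).2, map_one])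
  have hα1 : α ≠ 1 := by
    rintro rfl
    exact h.ne_one (by simpa using e)
  have hV : ∀ β, β * β = 1 → β ≠ 1 → ψ β ∈ O := fun β h1 h2 => by
    obtain ⟨γ, rfl⟩ := v_conj α β hα2 h1 hα1 h2
    simpa using hx γ _ ⟨n, hn, e2⟩
  by_cases hc : ∃ β, β * β = 1 ∧ β ≠ 1 ∧ t * ψ β ∈ O
  · obtain ⟨β, hβ, h1, h2⟩ := hc
    refine hsub.antisymm ?_
    rintro _ ⟨⟨γ, hγ, rfl | rfl⟩, h3⟩
    · exact hV γ hγ (fun e => h3 (by simp [e]))
    · by_cases h4 : γ = 1
      · simpa [h4] using ht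
      · obtain ⟨δ, rfl⟩ := v_conj β γ hβ hγ h1 h4
        have := hx δ _ h2
        rwa [h.mult, mul_assoc, ← map_inv, ← map_mul] at this
  · exfalso
    have e4 : O = {g | ∃ α, ((α * α = 1 ∧ α ≠ 1) ∧ g = ψ α) ∨ (α = 1 ∧ g = t * ψ α)} := by
      apply Set.Subset.antisymm
      · intro g hg
        obtain ⟨⟨γ, hγ, rfl | rfl⟩, h3⟩ := hsub hg
        · exact ⟨γ, Or.inl ⟨⟨hγ, fun e => h3 (by simp [e])⟩, rfl⟩⟩
        · exact ⟨γ, Or.inr ⟨by_contra fun h4 => hc ⟨γ, hγ, h4, hg⟩, rfl⟩⟩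
      · rintro _ ⟨γ, ⟨⟨h1, h2⟩, rfl⟩ | ⟨rfl, rfl⟩⟩
        · exact hV γ h1 h2
        · simpa using ht
    have := J1.card_eq_mul_ncard_conj (normalizer (h.S : Set G)) t
    rw [inf_eq_right.2 h.cent_le, h.card_cent, ← hO, e4, h.ncard, card_v', card_1] at this
    exact h.not_sixteen _ (by rw [this]; norm_num)

theorem card_N (h : Hy t ψ) : Nat.card (normalizer (h.S : Set G)) = 168 := by
  rw [J1.card_eq_mul_ncard_conj _ t, inf_eq_right.2 h.cent_le, h.card_cent, h.orbit_eq,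
    h.ncard_S_sharp]

theorem conj_of_mem_S (h : Hy t ψ) {s : G} (hs : s ∈ h.S) (h1 : s ≠ 1) :
    ∃ n ∈ normalizer (h.S : Set G), n * t * n⁻¹ = s := by
  have : s ∈ (h.S : Set G) \ {1} := ⟨hs, h1⟩
  rwa [← h.orbit_eq] at this

theorem N_ne_top (h : Hy t ψ) (hns : ¬ Group.IsSolvable G) : normalizer (h.S : Set G) ≠ ⊤ := by
  intro e
  haveI : h.S.Normal := normalizer_eq_top_iff.1 e
  have h1 := h.card_N
  rw [e, card_top, card_eq_card_quotient_mul_card_subgroup h.S, h.card_S] at h1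
  haveI : IsZGroup (G ⧸ h.S) := IsZGroup.of_squarefree (by
    rw [show Nat.card (G ⧸ h.S) = 3 * 7 by omega]
    exact (Nat.squarefree_mul (by norm_num)).2 ⟨Nat.prime_three.squarefree,
      (by norm_num : Nat.Prime 7).squarefree⟩)
  haveI : Group.IsSolvable h.toFr.S :=
    Group.isSolvable_of_comm fun a b => Subtype.ext (h.S_comm a.2 b.2)
  exact hns (Group.isSolvable_of_ker_le_range h.toFr.S.subtype (QuotientGroup.mk' h.S) (by simp))

theorem spe (h : Hy t ψ) (hns : ¬ Group.IsSolvable G) :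
    Cfsg.IsStronglyPEmbedded 2 (normalizer (h.S : Set G)) := by
  refine ⟨by rw [h.card_G]; omega, h.N_ne_top hns, h.syl, iSup_le ?_⟩
  rintro ⟨Q, h1, h2⟩ g hg
  obtain ⟨s, hs, hs1⟩ : ∃ s ∈ Q, s ≠ 1 := by
    by_contra hh
    push Not at hh
    obtain rfl : Q = ⊥ := (eq_bot_iff_forall _).2 hh
    exact h2 fun A _ _ => by simp [Subsingleton.elim A ⊥]
  obtain ⟨n, hn, e⟩ := h.conj_of_mem_S (h1 hs) hs1
  obtain ⟨n', hn', e'⟩ := h.conj_of_mem_S (h1 ((mem_normalizer_iff.1 hg s).1 hs)) (by simpa using hs1)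
  have : n'⁻¹ * g * n ∈ centralizer {t} := by
    rw [mem_centralizer_singleton_iff]
    calc _ = n'⁻¹ * (g * (n * t * n⁻¹) * g⁻¹) * g * n := by group
      _ = _ := by rw [e, ← e']; group
  simpa [mul_assoc] using mul_mem (mul_mem hn' (h.cent_le this)) (inv_mem hn)

theorem odd_normal (h : Hy t ψ) (O : Subgroup G) [O.Normal] (hO : ¬ 2 ∣ Nat.card O) : O = ⊥ := by
  have sq : ∀ g ∈ O, g * g = 1 → g = 1 := fun g hg h1 => by
    by_contra h2
    exact hO (H9.orderOf_eq_two_of_mul_self h2 h1 ▸ O.orderOf_dvd_natCard hg)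
  have f1 : ∀ g ∈ O, g * t = t * g → g = 1 := fun g hg h1 => by
    obtain ⟨α, e⟩ := (h.cent g).1 h1
    rcases v_odd α with h2 | ⟨β, h2, h3⟩
    · exact sq g hg (by rw [h.sq e, h2, map_one])
    · refine absurd (h.inj ((sq _ ?_ (by rw [← map_mul, h3, map_one])).trans (map_one ψ).symm)) h2
      rw [map_mul, ← h.conj e, map_inv, ← mul_assoc, ← mul_assoc]
      exact O.mul_mem (‹O.Normal›.conj_mem g hg _) (O.inv_mem hg)
  have f2 : ∀ s ∈ h.S, s ≠ 1 → ∀ g ∈ O, s * g * s⁻¹ = g⁻¹ := fun s hs h1 g hg => by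
    have := MonoidHom.FixedPointFree.coe_eq_inv_of_involutive
      (φ := (MulAut.conjNormal s : MulAut O).toMonoidHom) (fun g e => by
        obtain ⟨n, -, rfl⟩ := h.conj_of_mem_S hs h1
        have e1 : n * t * n⁻¹ * g * (n * t * n⁻¹)⁻¹ = g := congrArg Subtype.val e
        have := f1 (n⁻¹ * g * n) (by simpa using ‹O.Normal›.conj_mem _ g.2 n⁻¹) (by
          calc _ = n⁻¹ * (n * t * n⁻¹ * g * (n * t * n⁻¹)⁻¹) * n * t := by rw [e1]
            _ = _ := by group)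
        exact Subtype.ext (by simpa [mul_assoc] using congrArg (fun x => n * x * n⁻¹) this))
      (fun g => Subtype.ext (by
        show s * (s * g * s⁻¹) * s⁻¹ = g
        calc _ = (s * s) * g * (s * s)⁻¹ := by group
          _ = _ := by rw [(h.mem_S.1 hs).2]; group))
    exact congrArg Subtype.val (congrFun this ⟨g, hg⟩)
  obtain ⟨α, h1, h2⟩ := v_ex
  refine (eq_bot_iff_forall _).2 fun g hg => sq g hg ?_
  have e1 := f2 _ (h.ψ_mem h1) (fun e => h2 (h.inj (e.trans (map_one ψ).symm))) g hg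
  have e2 := f2 _ h.t_mem h.ne_one _ (O.inv_mem hg)
  have e3 := f2 _ (h.S.mul_mem h.t_mem (h.ψ_mem h1)) (fun e => h.ne' 1 α (by simp [e])) g hg
  rw [inv_inv, ← e1] at e2
  rw [← eq_inv_iff_mul_eq_one, ← e3]
  exact e2.symm.trans (by group)

end Hy
end four

end H49.Alt
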