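import Cfsg.Agent.Lib.J1Rec.Ord2

/-!
# Groups of order dividing `175560` (helper49)
-/

set_option autoImplicit false

namespace H49.Ord

open Subgroup H49.J1

universe u

theorem comm_of_small {G : Type*} [Group G] [Finite G] {p : ℕ} [hp : Fact p.Prime] {a x : G}
    {Q : Subgroup G} (ha : orderOf a = p) (hn : a ∈ normalizer (Q : Set G)) (hQ : Nat.card Q < p)
    (hx : x ∈ Q) : x * a = a * x := by
  obtain ⟨i, j, hne, e⟩ := pigeon (fun i : Fin p => (⟨a ^ (i : ℕ) * x * (a ^ (i : ℕ))⁻¹,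
    (mem_normalizer_iff.1 (pow_mem hn _) x).1 hx⟩ : Q)) (by simpa using hQ)
  have e1 : a ^ (i : ℕ) * x * (a ^ (i : ℕ))⁻¹ = a ^ (j : ℕ) * x * (a ^ (j : ℕ))⁻¹ :=
    congrArg Subtype.val e
  have hb : (a ^ (j : ℕ))⁻¹ * a ^ (i : ℕ) ∈ zpowers a :=
    mul_mem (inv_mem (pow_mem (mem_zpowers a) _)) (pow_mem (mem_zpowers a) _)
  have ob : orderOf ((a ^ (j : ℕ))⁻¹ * a ^ (i : ℕ)) = orderOf a := by
    have := orderOf_dvd_of_mem_zpowers hb
    rw [ha] at this ⊢
    refine ((Nat.dvd_prime hp.out).1 this).resolve_left fun e2 => hne (Fin.ext ?_)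
    exact (pow_injOn_Iio_orderOf (by simp [ha]) (by simp [ha])
      (inv_mul_eq_one.1 (orderOf_eq_one_iff.1 e2))).symm
  have : zpowers a ≤ centralizer {x} := by
    rw [← zpowers_eq hb ob, zpowers_le, mem_centralizer_singleton_iff]
    calc _ = (a ^ (j : ℕ))⁻¹ * (a ^ (i : ℕ) * x * (a ^ (i : ℕ))⁻¹) * a ^ (i : ℕ) := by group
      _ = _ := by rw [e1]; group
  exact (mem_centralizer_singleton_iff.1 (this (mem_zpowers a))).symm

theorem normal_or (n : ℕ) : ∀ (G : Type u) [Group G] [Finite G], Nat.card G = n → n ∣ 175560 →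
    (IsSimpleGroup G ∧ n = 175560) ∨ ∀ a : G, orderOf a = 19 → ∀ g, g * a * g⁻¹ ∈ zpowers a := by
  haveI : Fact (Nat.Prime 19) := ⟨by norm_num⟩
  induction n using Nat.strong_induction_on with | _ n ih => ?_
  intro G _ _ hn hd
  subst hn
  by_cases hs : IsSimpleGroup G
  · by_cases hc : IsMulCommutative G
    · exact Or.inr fun a _ g => by rw [mul_comm' g, mul_inv_cancel_right]; exact mem_zpowers a
    · by_cases h19 : 19 ∣ Nat.card G
      · exact Or.inl ⟨hs, (isJ1_of_iso (isoJ1 hc hd h19)).2⟩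
      · exact Or.inr fun a ha => absurd (ha ▸ orderOf_dvd_natCard a) h19
  refine Or.inr fun a ha g => ?_
  have h2 : ¬ 19 ^ 2 ∣ Nat.card G := fun h => absurd (h.trans hd) (by norm_num)
  have a1 : a ≠ 1 := fun e => by simp [e] at ha
  haveI : Nontrivial G := ⟨a, 1, a1⟩
  obtain ⟨N, hN, n1, n2⟩ : ∃ N : Subgroup G, N.Normal ∧ N ≠ ⊥ ∧ N ≠ ⊤ := by
    by_contra hh
    push Not at hh
    exact hs ⟨fun N hN => (em _).imp_right (hh N hN)⟩
  have le : Nat.card G ≤ 175560 := Nat.le_of_dvd (by norm_num) hd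
  by_cases h19 : 19 ∣ Nat.card N
  · obtain ⟨b, hb, ob⟩ := exists_mem_ord h19
    obtain ⟨m, -, hm⟩ := conj_into_zpowers (M := ⊤) (mem_top b) (mem_top a) ob
      (by rw [← ha, pow_orderOf_eq_one]) (by rwa [card_top])
    have haN : a ∈ N := by simpa [mul_assoc] using hN.conj_mem' _ (zpowers_le.2 hb hm) m
    have lt : Nat.card N < Nat.card G := lt_of_le_of_ne (card_le_card_group N)
      fun e => n2 (eq_top_of_card_eq _ e)
    have h3 := (ih _ lt N rfl (N.card_subgroup_dvd_card.trans hd)).resolve_left (by omega)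
      ⟨a, haN⟩ (by rw [← orderOf_coe]; exact ha)
    refine mem_zpowers_of_Nz h2 ha (by rw [H9.orderOf_conj, ha]) ?_
    obtain ⟨r, hr⟩ := h3 ⟨_, hN.conj_mem _ haN g⟩
    exact mem_norm_of_pow (r := r) (congrArg Subtype.val hr).symm
  have hi : 19 ∣ N.index := ((Nat.Prime.dvd_mul Fact.out).1
    (N.card_mul_index ▸ ha ▸ orderOf_dvd_natCard a)).resolve_left h19
  have hC : N ≤ centralizer {a} := by
    rw [← relIndex_eq_one]
    by_contra hne
    obtain ⟨q, hq, hqd⟩ := Nat.exists_prime_and_dvd hne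
    haveI := Fact.mk hq
    obtain ⟨Q⟩ : Nonempty (Sylow q N) := inferInstance
    set Q' := (Q : Subgroup N).map N.subtype
    have h4 : N.index ∣ Nat.card (normalizer (Q' : Set G)) := by
      rw [← relIndex_top_right, ← Q.normalizer_sup_eq_top, relIndex_sup_right]
      exact index_dvd_card _
    obtain ⟨b, hb, ob⟩ := exists_mem_ord (hi.trans h4)
    have cQ : Nat.card Q' = Nat.card (Q : Subgroup N) := card_map_of_injective (subtype_injective _)
    have sm : Nat.card Q' < 19 := by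
      obtain ⟨k, hk⟩ := Q.isPGroup'.exists_card_eq
      have h5 : Nat.card Q' ∣ Nat.card N := card_dvd_of_le (map_subtype_le _)
      have h6 : Nat.card Q' ∣ 9240 := (Nat.Coprime.symm ((Nat.Prime.coprime_iff_not_dvd Fact.out).2
        fun h => h19 (h.trans h5))).dvd_of_dvd_mul_left (h5.trans (N.card_subgroup_dvd_card.trans hd))
      rw [cQ, hk] at h6 ⊢
      rcases k with _ | k
      · simp
      have h7 : q ∣ 2 ^ 3 * 3 * 5 * 7 * 11 := (dvd_pow_self q k.succ_ne_zero).trans h6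
      simp only [hq.dvd_mul, hq.prime.dvd_pow_iff_dvd (show 3 ≠ 0 by omega),
        Nat.prime_dvd_prime_iff_eq hq Nat.prime_two, Nat.prime_dvd_prime_iff_eq hq Nat.prime_three,
        Nat.prime_dvd_prime_iff_eq hq Nat.prime_five, Nat.prime_dvd_prime_iff_eq hq Nat.prime_seven,
        Nat.prime_dvd_prime_iff_eq hq Nat.prime_eleven] at h7
      have k4 : ∀ j, j ≤ k + 1 → q ^ j ∣ 9240 := fun j hj => (pow_dvd_pow q hj).trans h6
      have k2 := k4 2
      have k3 := k4 4
      rcases h7 with (((rfl | rfl) | rfl) | rfl) | rfl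
      · have : k < 3 := by omega
        interval_cases k <;> norm_num
      all_goals
        obtain rfl : k = 0 := by omega
        norm_num
    obtain ⟨m, -, hm⟩ := conj_into_zpowers (M := ⊤) (mem_top b) (mem_top a) ob
      (by rw [← ha, pow_orderOf_eq_one]) (by rwa [card_top])
    have h5 : Q'.map (MulAut.conj m⁻¹).toMonoidHom ≤ centralizer {a} ⊓ N := by
      rintro _ ⟨x, hx, rfl⟩
      refine ⟨mem_centralizer_singleton_iff.2 ?_, hN.conj_mem _ (map_subtype_le _ hx) _⟩
      have := mem_centralizer_singleton_iff.1 (zpowers_le.2 (mem_centralizer_singleton_iff.2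
        (comm_of_small ob hb sm hx).symm) hm)
      show m⁻¹ * x * m⁻¹⁻¹ * a = a * (m⁻¹ * x * m⁻¹⁻¹)
      calc _ = m⁻¹ * (x * (m * a * m⁻¹)) * m := by group
        _ = _ := by rw [← this]; group
    have h6 := card_dvd_of_le h5
    rw [card_map_of_injective (MulAut.conj m⁻¹).injective, cQ] at h6
    have h7 := ((centralizer {a} ⊓ N).subgroupOf N).card_mul_index
    rw [Nat.card_congr (subgroupOfEquivOfLe inf_le_right).toEquiv, inf_subgroupOf_right,
      ← (Q : Subgroup N).card_mul_index] at h7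
    exact Q.not_dvd_index (Nat.dvd_of_mul_dvd_mul_left Nat.card_pos (h7 ▸ Nat.mul_dvd_mul h6 hqd))
  have lt : Nat.card (G ⧸ N) < Nat.card G := by
    have := N.card_mul_index
    have h1 : 1 < Nat.card N := (one_lt_card_iff_ne_bot N).2 n1
    have h3 : 0 < N.index := Nat.pos_of_ne_zero index_ne_zero_of_finite
    rw [← index_eq_card]
    nlinarith
  have oa : orderOf (QuotientGroup.mk' N a) = 19 := by
    refine ((Nat.dvd_prime Fact.out).1 (ha ▸ orderOf_map_dvd _ a)).resolve_left fun e => h19 ?_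
    exact ord_dvd ((QuotientGroup.eq_one_iff a).1 (orderOf_eq_one_iff.1 e)) ha
  obtain ⟨r, hr⟩ := (ih _ lt (G ⧸ N) rfl (N.card_quotient_dvd_card.trans hd)).resolve_left
    (by omega) _ oa (QuotientGroup.mk' N g)
  have h3 : (a ^ r)⁻¹ * (g * a * g⁻¹) ∈ N := QuotientGroup.eq.1 (by simpa using hr)
  refine mem_zpowers_of_Nz h2 ha (by rw [H9.orderOf_conj, ha]) ?_
  exact (mul_mem_cancel_left (inv_mem (zpow_mem (mem_Nz_self a) r))).1 (cent_le_Nz a (hC h3))

end H49.Ord
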