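import Cfsg.Agent.Base

/-!
# The arithmetic sieve for simple groups of order dividing `175560` (helper49)
-/

set_option autoImplicit false

namespace H49.Ord

/-- the divisors of `175560` -/
def L : List ℕ := [1, 2, 3, 4, 5, 6, 7, 8, 10, 11, 12, 14, 15, 19, 20, 21, 22, 24, 28, 30, 33, 35, 38, 40, 42, 44, 55, 56, 57, 60, 66, 70, 76, 77, 84, 88, 95, 105, 110, 114, 120, 132, 133, 140, 152, 154, 165, 168, 190, 209, 210, 220, 228, 231, 264, 266, 280, 285, 308, 330, 380, 385, 399, 418, 420, 440, 456, 462, 532, 570, 616, 627, 660, 665, 760, 770, 798, 836, 840, 924, 1045, 1064, 1140, 1155, 1254, 1320, 1330, 1463, 1540, 1596, 1672, 1848, 1995, 2090, 2280, 2310, 2508, 2660, 2926, 3080, 3135, 3192, 3990, 4180, 4389, 4620, 5016, 5320, 5852, 6270, 7315, 7980, 8360, 8778, 9240, 11704, 12540, 14630, 15960, 17556, 21945, 25080, 29260, 35112, 43890, 58520, 87780, 175560]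

theorem mem_L {m : ℕ} (h : m ∣ 175560) : m ∈ L := by
  obtain ⟨a, b, ha, hb, rfl⟩ := (Nat.dvd_mul (k := m) (m := 420) (n := 418)).1 h
  exact (by decide +kernel : ∀ a ∈ Nat.divisors 420, ∀ b ∈ Nat.divisors 418, a * b ∈ L) a
    (Nat.mem_divisors.2 ⟨ha, by omega⟩) b (Nat.mem_divisors.2 ⟨hb, by omega⟩)

def K1a (d p N : ℕ) : Prop := if p ∣ d then N ∣ d ∧ d / N % p = 1 ∧ N ≠ d else N = 1
def K1b (d p N C : ℕ) : Prop := if p ∣ d then C ∣ N ∧ N / C ∣ p - 1 ∧ C ≠ N ∧ p ∣ C else C = 1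
def K2a (d p q : ℕ) (x y : ℕ × ℕ) : Prop := p ∣ d → q ∣ d → (q ∣ x.2 ↔ p ∣ y.2)
def K2 (d p q : ℕ) (x y : ℕ × ℕ) : Prop := p ∣ d → q ∣ d → q ∣ x.1 →
  ∃ m ∈ L, m ∣ x.1 ∧ m ∣ y.1 ∧ q ∣ m ∧ x.1 / m % q = 1 ∧ (q ∣ x.2 → p ∣ m ∧ y.1 / m % p = 1)
def K3 (d c p : ℕ) (x : ℕ × ℕ) : Prop := p ∣ d → (p ∣ c ↔ 2 ∣ x.2) ∧
  (p ∣ c → ∃ m ∈ L, m ∣ c ∧ m ∣ x.1 ∧ 2 * p ∣ m ∧ c / m % p = 1) ∧
  (2 ∣ x.1 → ¬ 2 ∣ x.2 → d / x.1 * (p - 1) * p ≤ d / c * (d / c))
def KK (d p q : ℕ) (x y : ℕ × ℕ) : Prop := K2a d p q x y ∧ K2 d p q x y ∧ K2 d q p y x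

instance (d p N : ℕ) : Decidable (K1a d p N) := by unfold K1a; infer_instance
instance (d p N C : ℕ) : Decidable (K1b d p N C) := by unfold K1b; infer_instance
instance (d p q : ℕ) (x y : ℕ × ℕ) : Decidable (K2a d p q x y) := by unfold K2a; infer_instance
instance (d p q : ℕ) (x y : ℕ × ℕ) : Decidable (K2 d p q x y) := by unfold K2; infer_instance
instance (d c p : ℕ) (x : ℕ × ℕ) : Decidable (K3 d c p x) := by unfold K3; infer_instance
instance (d p q : ℕ) (x y : ℕ × ℕ) : Decidable (KK d p q x y) := by unfold KK; infer_instance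

/-- the admissible pairs (normaliser order, centraliser order) -/
def T : List (ℕ × List (ℕ × ℕ) × List (ℕ × ℕ) × List (ℕ × ℕ) × List (ℕ × ℕ) × List (ℕ × ℕ)) :=
  [(76, [], [(1, 1)], [(1, 1)], [(1, 1)], [(1, 1)]),
   (152, [], [(1, 1)], [(1, 1)], [(1, 1)], [(1, 1)]),
   (228, [], [(1, 1)], [(1, 1)], [(1, 1)], [(12, 6)]),
   (380, [], [(1, 1)], [(1, 1)], [], [(1, 1)]),
   (456, [], [(1, 1)], [(1, 1)], [(1, 1)], [(6, 3), (24, 12), (114, 57)]),
   (532, [], [(1, 1)], [], [(1, 1)], [(1, 1)]),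
   (760, [(38, 19)], [(1, 1)], [(1, 1)], [(10, 5)], [(1, 1)]),
   (836, [], [], [(1, 1)], [(1, 1)], [(1, 1)]),
   (1064, [], [(1, 1)], [], [(1, 1)], [(1, 1)]),
   (1140, [(57, 19)], [(1, 1)], [(1, 1)], [(190, 95)], [(6, 3), (60, 30), (114, 57)]),
   (1596, [], [(1, 1)], [(28, 14)], [(1, 1)], [(12, 6), (84, 42), (228, 114)]),
   (1672, [], [], [(1, 1)], [(1, 1)], [(1, 1)]),
   (2280, [(114, 19), (114, 38), (114, 57)], [(1, 1)], [(1, 1)], [(30, 15), (380, 95), (380, 190)], [(12, 6), (30, 15), (120, 60), (228, 114), (570, 285)]),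
   (2508, [], [], [(1, 1)], [(1, 1)], [(6, 3), (114, 57), (132, 66)]),
   (2660, [], [(1, 1)], [(14, 7)], [(10, 5)], [(1, 1)]),
   (3192, [], [(1, 1)], [(56, 28), (399, 133)], [(1, 1)], [(6, 3), (24, 12), (42, 21), (114, 57), (168, 84), (456, 228), (798, 399)]),
   (4180, [], [], [(1, 1)], [(380, 95), (380, 190)], [(1, 1)]),
   (5016, [], [(418, 209)], [(1, 1)], [(1, 1)], [(12, 6), (66, 33), (228, 114), (264, 132), (1254, 627)]),
   (5320, [(266, 133)], [(1, 1)], [(28, 14)], [(20, 5), (20, 10), (70, 35)], [(1, 1)]),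
   (5852, [(76, 38)], [(44, 22)], [(266, 133)], [(1, 1)], [(1, 1)]),
   (7980, [(38, 19), (399, 133)], [(1, 1)], [(42, 7), (42, 14), (42, 21), (140, 70), (532, 266)], [(30, 15), (380, 95), (380, 190), (1330, 665)], [(6, 3), (42, 21), (60, 30), (114, 57), (420, 210), (798, 399), (1140, 570)]),
   (8360, [(418, 209)], [], [(1, 1)], [(10, 5), (110, 55), (760, 190), (760, 380)], [(1, 1)]),
   (11704, [(152, 76)], [(88, 44)], [(532, 266)], [(1, 1)], [(1, 1)]),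
   (12540, [(627, 209)], [(1045, 209)], [(1, 1)], [(190, 95), (1140, 285), (1140, 570), (2090, 1045)], [(12, 6), (30, 15), (66, 33), (228, 114), (570, 285), (660, 330), (1254, 627)]),
   (15960, [(76, 38), (798, 133), (798, 266), (798, 399)], [(1, 1)], [(84, 14), (84, 28), (84, 42), (280, 140), (1064, 532), (1995, 665)], [(10, 5), (60, 15), (60, 30), (210, 105), (760, 190), (760, 380), (2660, 665), (2660, 1330)], [(12, 6), (30, 15), (84, 42), (120, 60), (210, 105), (228, 114), (570, 285), (840, 420), (1596, 798), (2280, 1140), (3990, 1995)]),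
   (17556, [(228, 38), (228, 76), (228, 114)], [(132, 66)], [(14, 7), (308, 154), (798, 133), (798, 266), (798, 399)], [(1, 1)], [(6, 3), (42, 21), (114, 57), (132, 66), (798, 399), (924, 462), (2508, 1254)]),
   (25080, [(1254, 209), (1254, 418), (1254, 627)], [(2090, 209), (2090, 418), (2090, 1045)], [(1, 1)], [(30, 15), (330, 165), (380, 95), (380, 190), (2280, 570), (2280, 1140), (4180, 1045), (4180, 2090)], [(6, 3), (24, 12), (60, 30), (114, 57), (132, 66), (330, 165), (456, 228), (1140, 570), (1320, 660), (2508, 1254), (6270, 3135)]),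
   (29260, [(380, 190)], [(220, 22), (220, 44), (220, 110)], [(154, 77), (1330, 665)], [(10, 5), (110, 55), (2660, 665), (2660, 1330)], [(1, 1)]),
   (35112, [(456, 76), (456, 152), (456, 228)], [(22, 11), (264, 132), (2926, 1463)], [(28, 14), (616, 308), (1596, 266), (1596, 532), (1596, 798), (4389, 1463)], [(1, 1)], [(12, 6), (66, 33), (84, 42), (228, 114), (264, 132), (462, 231), (1254, 627), (1596, 798), (1848, 924), (5016, 2508), (8778, 4389)]),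
   (58520, [(38, 19), (760, 380), (2926, 1463)], [(440, 44), (440, 88), (440, 220), (1045, 209)], [(14, 7), (308, 154), (2660, 1330)], [(20, 5), (20, 10), (70, 35), (220, 55), (220, 110), (770, 385), (5320, 1330), (5320, 2660)], [(1, 1)]),
   (87780, [(57, 19), (418, 209), (1140, 190), (1140, 380), (1140, 570), (4389, 1463)], [(55, 11), (418, 209), (660, 66), (660, 132), (660, 330), (7315, 1463)], [(21, 7), (70, 35), (266, 133), (462, 77), (462, 154), (462, 231), (1540, 770), (3990, 665), (3990, 1330), (3990, 1995), (5852, 2926)], [(30, 15), (330, 165), (380, 95), (380, 190), (1330, 665), (4180, 1045), (4180, 2090), (7980, 1995), (7980, 3990), (14630, 7315)], [(12, 6), (30, 15), (66, 33), (84, 42), (210, 105), (228, 114), (462, 231), (570, 285), (660, 330), (1254, 627), (1596, 798), (3990, 1995), (4620, 2310), (8778, 4389), (12540, 6270)]),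
   (175560, [(114, 19), (114, 38), (114, 57), (836, 418), (2280, 380), (2280, 760), (2280, 1140), (8778, 1463), (8778, 2926), (8778, 4389)], [(110, 11), (110, 22), (110, 55), (836, 418), (1320, 132), (1320, 264), (1320, 660), (3135, 627), (14630, 1463), (14630, 2926), (14630, 7315)], [(42, 7), (42, 14), (42, 21), (140, 70), (532, 266), (924, 154), (924, 308), (924, 462), (3080, 1540), (7980, 1330), (7980, 2660), (7980, 3990), (11704, 5852), (21945, 7315)], [(10, 5), (60, 15), (60, 30), (110, 55), (210, 105), (660, 165), (660, 330), (760, 190), (760, 380), (2310, 1155), (2660, 665), (2660, 1330), (8360, 2090), (8360, 4180), (15960, 3990), (15960, 7980), (29260, 7315), (29260, 14630)], [(6, 3), (24, 12), (42, 21), (60, 30), (114, 57), (132, 66), (168, 84), (330, 165), (420, 210), (456, 228), (798, 399), (924, 462), (1140, 570), (1320, 660), (2310, 1155), (2508, 1254), (3192, 1596), (6270,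 3135), (7980, 3990), (9240, 4620), (17556, 8778), (25080, 12540), (43890, 21945)])]

def Cov (d p : ℕ) (o : List (ℕ × ℕ)) : Prop :=
  ∀ N ∈ L, K1a d p N → ∀ C ∈ L, K1b d p N C → (N, C) ∈ o
instance (d p : ℕ) (o : List (ℕ × ℕ)) : Decidable (Cov d p o) := by unfold Cov; infer_instance

theorem cov : ∀ r ∈ T, Cov r.1 19 r.2.1 ∧ Cov r.1 11 r.2.2.1 ∧ Cov r.1 7 r.2.2.2.1 ∧
    Cov r.1 5 r.2.2.2.2.1 ∧ Cov r.1 3 r.2.2.2.2.2 := by decide +kernel

theorem mem_T : ∀ d ∈ L, 76 ∣ d → ∃ r ∈ T, r.1 = d := by decide +kernel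

def Fin3 (d : ℕ) (x19 x11 x7 x5 x3 : ℕ × ℕ) : Prop :=
  ∀ c ∈ L, c ∣ d → d / c % 2 = 1 → c ≠ d → K3 d c 19 x19 → K3 d c 11 x11 →
      K3 d c 7 x7 → K3 d c 5 x5 → K3 d c 3 x3 →
    c = 4 ∨ c = 8 ∨ (d = 175560 ∧ ((c = 24 ∧ (x3.1 = 60 ∨ (x3.1 = 24 ∧ x3.2 = 12))) ∨
      (c = 120 ∧ x5.1 = 60 ∧ x5.2 = 30 ∧ x3.2 = 30)))
instance (d : ℕ) (x19 x11 x7 x5 x3 : ℕ × ℕ) : Decidable (Fin3 d x19 x11 x7 x5 x3) := by
  unfold Fin3; infer_instance

def Lev3 (d : ℕ) (x19 x11 x7 x5 : ℕ × ℕ) (o : List (ℕ × ℕ)) : Prop :=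
  ∀ x3 ∈ o, KK d 19 3 x19 x3 → KK d 11 3 x11 x3 → KK d 7 3 x7 x3 → KK d 5 3 x5 x3 →
    Fin3 d x19 x11 x7 x5 x3
instance (d : ℕ) (x19 x11 x7 x5 : ℕ × ℕ) (o : List (ℕ × ℕ)) : Decidable (Lev3 d x19 x11 x7 x5 o) := by
  unfold Lev3; infer_instance

theorem sieve0 : ∀ r ∈ T, ∀ x19 ∈ r.2.1, ∀ x11 ∈ r.2.2.1, KK r.1 19 11 x19 x11 →
    ∀ x7 ∈ r.2.2.2.1, KK r.1 19 7 x19 x7 → KK r.1 11 7 x11 x7 →
    ∀ x5 ∈ r.2.2.2.2.1, KK r.1 19 5 x19 x5 → KK r.1 11 5 x11 x5 → KK r.1 7 5 x7 x5 →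
    Lev3 r.1 x19 x11 x7 x5 r.2.2.2.2.2 := by
  decide +kernel

theorem sieve {d c : ℕ} (x : ℕ → ℕ × ℕ) (hd : d ∣ 175560) (h76 : 76 ∣ d)
    (h1 : ∀ p ∈ [19, 11, 7, 5, 3], (x p).1 ∣ 175560 ∧ (x p).2 ∣ 175560 ∧ K1a d p (x p).1 ∧
      K1b d p (x p).1 (x p).2 ∧ K3 d c p (x p))
    (h2 : ∀ p ∈ [19, 11, 7, 5, 3], ∀ q ∈ [19, 11, 7, 5, 3], p ≠ q → KK d p q (x p) (x q))
    (hc : c ∣ d) (ho : d / c % 2 = 1) (hne : c ≠ d) :
    c = 4 ∨ c = 8 ∨ (d = 175560 ∧ ((c = 24 ∧ ((x 3).1 = 60 ∨ ((x 3).1 = 24 ∧ (x 3).2 = 12))) ∨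
      (c = 120 ∧ (x 5).1 = 60 ∧ (x 5).2 = 30 ∧ (x 3).2 = 30))) := by
  obtain ⟨r, hr, rfl⟩ := mem_T d (mem_L hd) h76
  obtain ⟨c1, c2, c3, c4, c5⟩ := cov r hr
  have k : ∀ p ∈ [19, 11, 7, 5, 3], ∀ o, Cov r.1 p o → x p ∈ o := fun p hp o ho =>
    ho _ (mem_L (h1 p hp).1) (h1 p hp).2.2.1 _ (mem_L (h1 p hp).2.1) (h1 p hp).2.2.2.1
  exact sieve0 r hr _ (k 19 (by simp) _ c1) _ (k 11 (by simp) _ c2)
    (h2 _ (by simp) _ (by simp) (by simp)) _ (k 7 (by simp) _ c3)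
    (h2 _ (by simp) _ (by simp) (by simp)) (h2 _ (by simp) _ (by simp) (by simp))
    _ (k 5 (by simp) _ c4) (h2 _ (by simp) _ (by simp) (by simp))
    (h2 _ (by simp) _ (by simp) (by simp)) (h2 _ (by simp) _ (by simp) (by simp))
    _ (k 3 (by simp) _ c5) (h2 _ (by simp) _ (by simp) (by simp))
    (h2 _ (by simp) _ (by simp) (by simp)) (h2 _ (by simp) _ (by simp) (by simp))
    (h2 _ (by simp) _ (by simp) (by simp)) c (mem_L (hc.trans hd)) hc ho hne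
    (h1 19 (by simp)).2.2.2.2 (h1 11 (by simp)).2.2.2.2 (h1 7 (by simp)).2.2.2.2
    (h1 5 (by simp)).2.2.2.2 (h1 3 (by simp)).2.2.2.2

end H49.Ord
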